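import Groth.Agent.Lib.LimH13.KerFG
import Groth.Agent.S7379
import Mathlib

/-!
# Finite type ideals with prescribed support
-/

set_option autoImplicit false
set_option backward.isDefEq.respectTransparency.types false
universe u

open CategoryTheory CategoryTheory.Limits AlgebraicGeometry TopologicalSpace

namespace Groth.Agent.AdmBlowUp4

/-- A constructible closed or open subset of a compact space is compact. -/
theorem isCompact_of_isConstructible {α : Type*} [TopologicalSpace α] [CompactSpace α] {C : Set α}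
    (hC : Topology.IsConstructible C) : IsCompact C := by
  obtain ⟨s, rfl⟩ := (BooleanSubalgebra.mem_closure_iff_sup_sdiff
    (s := {U : Set α | IsOpen U ∧ IsRetrocompact U})
    ⟨fun _ h _ h' => ⟨h.1.union h'.1, h.2.union h'.2⟩,
     fun _ h _ h' => ⟨h.1.inter h'.1, h.2.inter_isOpen h'.2 h'.1⟩⟩
    ⟨isOpen_empty, IsRetrocompact.empty⟩ ⟨isOpen_univ, IsRetrocompact.univ⟩).1 hC
  rw [Finset.sup_eq_iSup]
  refine s.finite_toSet.isCompact_biUnion fun x _ => ?_
  exact x.1.2.2.isCompact.diff x.2.2.1

/-- Every quasi-compact open of a qcqs scheme is the complement of the support of an ideal of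
finite type. -/
theorem exists_ideal_support_eq (X : Scheme.{u}) [CompactSpace X] [QuasiSeparatedSpace X]
    (O : X.Opens) (hO : IsCompact (O : Set X)) :
    ∃ J : X.IdealSheafData, (∀ V : X.affineOpens, (J.ideal V).FG) ∧ (J.support : Set X) = (O : Set X)ᶜ := by
  let Z : Closeds X := ⟨(O : Set X)ᶜ, O.2.isClosed_compl⟩
  let K := Scheme.IdealSheafData.vanishingIdeal Z
  let ι := K.subschemeι
  have hι : Set.range ι = (O : Set X)ᶜ := by
    rw [Scheme.IdealSheafData.range_subschemeι, Scheme.IdealSheafData.coe_support_vanishingIdeal]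
    rfl
  obtain ⟨I, _, _, _, D, c, hc, hD, ⟨e⟩⟩ := S7379.result ι
  have hcl : ∀ i, IsClosedImmersion (D.obj i).hom := fun i => (hD i).1
  let W : Iᵒᵖ → X.Opens := fun i =>
    ⟨(Set.range (D.obj i).hom)ᶜ, (hcl i).base_closed.isClosed_range.isOpen_compl⟩
  have hsub : ∀ i, (O : Set X)ᶜ ⊆ Set.range (D.obj i).hom := fun i => by
    rw [← hι]
    rintro _ ⟨z, rfl⟩
    refine ⟨(e.inv ≫ c.π.app i).left z, ?_⟩
    rw [← Scheme.Hom.comp_apply, Over.w]
    rfl
  have hcov : (O : Set X) ⊆ ⋃ i, (W i : Set X) := by
    intro x hx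
    by_contra hn
    rw [Set.mem_iUnion] at hn
    push Not at hn
    have hmem : ∀ i, x ∈ Set.range (D.obj i).hom := fun i => not_not.1 (hn i)
    have hlift : ∀ i, ∃ l : Spec (X.residueField x) ⟶ (D.obj i).left, l ≫ (D.obj i).hom = X.fromSpecResidueField x := by
      intro i
      obtain ⟨z, hz⟩ := hmem i
      haveI := hcl i
      haveI : IsIso ((D.obj i).hom.residueFieldMap z) := by
        refine (ConcreteCategory.isIso_iff_bijective _).2 ⟨RingHom.injective _, ?_⟩
        exact Ideal.Quotient.lift_surjective_of_surjective _ _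
          (Ideal.Quotient.mk_surjective.comp ((D.obj i).hom.stalkMap_surjective z))
      subst hz
      refine ⟨Spec.map (inv ((D.obj i).hom.residueFieldMap z)) ≫ (D.obj i).left.fromSpecResidueField z, ?_⟩
      rw [Category.assoc, ← Scheme.Hom.SpecMap_residueFieldMap_fromSpecResidueField, ← Spec.map_comp_assoc,
        IsIso.hom_inv_id, Spec.map_id, Category.id_comp]
    choose l hl using hlift
    let s : Cone D :=
      { pt := Over.mk (X.fromSpecResidueField x)
        π :=
          { app := fun i => Over.homMk (l i) (hl i)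
            naturality := fun i j a => by
              ext1
              haveI := hcl j
              show 𝟙 _ ≫ l j = l i ≫ (D.map a).left
              refine (cancel_mono (D.obj j).hom).1 ?_
              rw [Category.id_comp, Category.assoc, Over.w, hl, hl] } }
    have h2 : (hc.lift s ≫ e.hom).left ≫ ι = X.fromSpecResidueField x := Over.w (hc.lift s ≫ e.hom)
    have : x ∈ Set.range ι := by
      refine ⟨(hc.lift s ≫ e.hom).left (IsLocalRing.closedPoint _), ?_⟩
      rw [← Scheme.Hom.comp_apply, h2]
      exact Scheme.fromSpecResidueField_apply x _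
    rw [hι] at this
    exact this hx
  obtain ⟨t, ht⟩ := hO.elim_finite_subcover (fun i => (W i : Set X)) (fun i => (W i).2) hcov
  obtain ⟨j, hj⟩ := IsCofiltered.inf_objs_exists t
  haveI := hcl j
  haveI := (hD j).2
  refine ⟨(D.obj j).hom.ker, LimH13.ifg_ker _, ?_⟩
  rw [Scheme.Hom.support_ker, (hcl j).base_closed.isClosed_range.closure_eq]
  refine Set.Subset.antisymm (fun x hx hxO => ?_) (hsub j)
  obtain ⟨i, hi, hxi⟩ := Set.mem_iUnion₂.1 (ht hxO)
  obtain ⟨a⟩ := hj hi
  obtain ⟨z, rfl⟩ := hx
  refine hxi ⟨(D.map a).left z, ?_⟩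
  rw [← Scheme.Hom.comp_apply, Over.w]

end Groth.Agent.AdmBlowUp4
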