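import Groth.Agent.Lib.AdmBlowUp4.Separate
import Groth.Agent.Lib.EffCartier.FiniteType
import Groth.Agent.Lib.EffCartier.Mul
import Groth.Agent.Lib.BlowUpExist.Proper
import Mathlib.CategoryTheory.Limits.Shapes.WidePullbacks
import Mathlib.AlgebraicGeometry.Limits

/-!
# Wide fibre products of proper morphisms, complements of supports
-/

set_option autoImplicit false
universe u

open CategoryTheory CategoryTheory.Limits AlgebraicGeometry TopologicalSpace

namespace Groth.Agent.AdmBlowUp4

theorem isProper_widePullback_base {S : Scheme.{u}} :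
    ∀ {m : ℕ} (A : Fin m → Scheme.{u}) (g : ∀ i, A i ⟶ S) [∀ i, IsProper (g i)], IsProper (WidePullback.base g)
  | 0, A, g, _ => by
    haveI : IsIso (WidePullback.base g) :=
      ⟨WidePullback.lift (𝟙 S) (fun i => Fin.elim0 i) (fun i => Fin.elim0 i),
        WidePullback.hom_ext g _ _ (fun i => Fin.elim0 i)
          (by rw [Category.assoc, WidePullback.lift_base, Category.comp_id, Category.id_comp]),
        WidePullback.lift_base _ _ _ _⟩
    infer_instance
  | m + 1, A, g, _ => by
    haveI := isProper_widePullback_base (fun i : Fin m => A i.succ) (fun i => g i.succ)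
    let T : Scheme.{u} := widePullback S (fun i : Fin m => A i.succ) (fun i => g i.succ)
    let h : widePullback S A g ⟶ pullback (g 0) (WidePullback.base (fun i : Fin m => g i.succ)) :=
      pullback.lift (WidePullback.π g 0)
        (WidePullback.lift (WidePullback.base g) (fun i : Fin m => WidePullback.π g i.succ)
          (fun i => WidePullback.π_arrow g i.succ))
        (by rw [WidePullback.lift_base, WidePullback.π_arrow])
    let k : pullback (g 0) (WidePullback.base (fun i : Fin m => g i.succ)) ⟶ widePullback S A g :=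
      WidePullback.lift (pullback.fst _ _ ≫ g 0)
        (Fin.cons (pullback.fst _ _) (fun i => pullback.snd _ _ ≫ WidePullback.π (fun i : Fin m => g i.succ) i))
        (fun i => by
          induction i using Fin.cases with
          | zero => rfl
          | succ i => rw [Fin.cons_succ, Category.assoc, WidePullback.π_arrow, pullback.condition])
    have hh : IsIso h := by
      have hk : ∀ i, k ≫ WidePullback.π g i =
          (Fin.cons (pullback.fst _ _) (fun i => pullback.snd _ _ ≫ WidePullback.π (fun i : Fin m => g i.succ) i) :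
            ∀ j, pullback (g 0) (WidePullback.base (fun i : Fin m => g i.succ)) ⟶ A j) i :=
        fun i => WidePullback.lift_π _ _ _ _ _
      have hk₀ : k ≫ WidePullback.π g 0 = pullback.fst _ _ := hk 0
      have hkb : k ≫ WidePullback.base g = pullback.fst _ _ ≫ g 0 := WidePullback.lift_base _ _ _ _
      have hfst : h ≫ pullback.fst _ _ = WidePullback.π g 0 := pullback.lift_fst _ _ _
      have hsnd : h ≫ pullback.snd _ _ = WidePullback.lift (WidePullback.base g)
          (fun i : Fin m => WidePullback.π g i.succ) (fun i => WidePullback.π_arrow g i.succ) := pullback.lift_snd _ _ _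
      refine ⟨k, WidePullback.hom_ext g _ _ (fun i => ?_) ?_, pullback.hom_ext ?_ ?_⟩
      · rw [Category.assoc, hk, Category.id_comp]
        induction i using Fin.cases with
        | zero => exact hfst
        | succ i =>
          rw [Fin.cons_succ, reassoc_of% hsnd]
          exact WidePullback.lift_π _ _ _ _ _
      · rw [Category.assoc, hkb, Category.id_comp, reassoc_of% hfst, WidePullback.π_arrow]
      · rw [Category.assoc, hfst, hk₀, Category.id_comp]
      · rw [Category.assoc, hsnd, Category.id_comp]
        refine WidePullback.hom_ext _ _ _ (fun i => ?_) ?_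
        · rw [Category.assoc]
          erw [WidePullback.lift_π]
          exact hk i.succ
        · rw [Category.assoc]
          erw [WidePullback.lift_base]
          rw [hkb, pullback.condition]
    rw [show WidePullback.base g = h ≫ pullback.fst _ _ ≫ g 0 by simp only [h]; rw [pullback.lift_fst_assoc, WidePullback.π_arrow]]
    infer_instance

/-- The complement of the support of an ideal of finite type is quasi-compact. -/
theorem isCompact_compl_support {X : Scheme.{u}} [CompactSpace X] {J : X.IdealSheafData}
    (hJ : BlowUp.IsFiniteTypeIdeal J) : IsCompact ((J.support : Set X)ᶜ) := by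
  obtain ⟨s, hs⟩ := isCompact_univ.elim_finite_subcover (fun V : X.affineOpens => (V.1 : Set X))
    (fun V => V.1.2) (fun x _ => by
      obtain ⟨_, ⟨V, hV, rfl⟩, hxV, -⟩ :=
        X.isBasis_affineOpens.exists_subset_of_mem_open (Set.mem_univ x) isOpen_univ
      exact Set.mem_iUnion.2 ⟨⟨V, hV⟩, hxV⟩)
  choose gen hgen using fun V => hJ V
  have : (J.support : Set X)ᶜ = ⋃ V ∈ s, ⋃ a ∈ gen V, (X.basicOpen a : Set X) := by
    ext x
    simp only [Set.mem_compl_iff, Set.mem_iUnion]
    constructor
    · intro hx
      obtain ⟨V, hV, hxV⟩ := Set.mem_iUnion₂.1 (hs (Set.mem_univ x))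
      refine ⟨V, hV, ?_⟩
      by_contra hn
      push Not at hn
      refine hx ((J.mem_support_iff_of_mem hxV).2 ?_)
      rw [← hgen V, Scheme.zeroLocus_span, Scheme.mem_zeroLocus_iff]
      exact hn
    · rintro ⟨V, -, a, ha, hxa⟩ hx
      exact basicOpen_mem_support (by rw [← hgen V]; exact Ideal.subset_span ha) hx hxa
  rw [this]
  exact s.isCompact_biUnion fun V _ => (gen V).isCompact_biUnion fun a _ => (V.2.basicOpen a).isCompact

theorem isFiniteTypeIdeal_iSup {X : Scheme.{u}} {ι : Type*} [Finite ι] {J : ι → X.IdealSheafData}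
    (hJ : ∀ i, BlowUp.IsFiniteTypeIdeal (J i)) : BlowUp.IsFiniteTypeIdeal (⨆ i, J i) := fun U => by
  rw [Scheme.IdealSheafData.ideal_iSup, iSup_apply]
  exact Submodule.fg_iSup _ fun i => hJ i U

theorem isIso_restrict_of_le' {X Y : Scheme.{u}} (f : X ⟶ Y) {U W : Y.Opens} [IsIso (f ∣_ U)] (h : W ≤ U) :
    IsIso (f ∣_ W) := by
  have h1 : IsIso ((f ∣_ U) ∣_ (U.ι ⁻¹ᵁ W)) :=
    IsZariskiLocalAtTarget.restrict (P := MorphismProperty.isomorphisms Scheme) (inferInstanceAs (IsIso (f ∣_ U))) _
  refine ((MorphismProperty.isomorphisms Scheme.{u}).arrow_mk_iso_iff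
    (morphismRestrictRestrict f U (U.ι ⁻¹ᵁ W) ≪≫ eqToIso ?_)).1 h1
  rw [Scheme.Hom.image_preimage_eq_opensRange_inf, Scheme.Opens.opensRange_ι, inf_eq_right.2 h]

end Groth.Agent.AdmBlowUp4
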