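import Groth.Agent.Lib.AdmBlowUp4.Ideals
import Groth.Agent.Lib.EffCartier.FiniteType
import Groth.Agent.Lib.BlowUpExist.Glue

/-!
# Separating closed constructible subsets by admissible blowing ups
-/

set_option autoImplicit false
set_option backward.isDefEq.respectTransparency.types false
universe u

open CategoryTheory CategoryTheory.Limits AlgebraicGeometry TopologicalSpace

namespace Groth.Agent.AdmBlowUp4

variable {X : Scheme.{u}}

theorem basicOpen_mem_support {J : X.IdealSheafData} {V : X.affineOpens} {j : Γ(X, V.1)} (hj : j ∈ J.ideal V)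
    {w : X} (hw : w ∈ J.support) : w ∉ X.basicOpen j := by
  intro h
  have hwV : w ∈ V.1 := X.basicOpen_le j h
  rw [J.mem_support_iff_of_mem hwV, Scheme.mem_zeroLocus_iff] at hw
  exact hw j hj h

/-- If `w ∈ V` lies on the first piece and off the whole, the cofactor vanishes at `w`. -/
theorem not_mem_basicOpen_cofactor {I J : X.IdealSheafData} {V : X.affineOpens} {f a : Γ(X, V.1)}
    (hI : I.ideal V = Ideal.span {f}) (hfa : f * a ∈ J.ideal V) {w : X} (hwV : w ∈ V.1)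
    (hw : w ∈ J.support) (hwI : w ∉ I.support) : w ∉ X.basicOpen a := by
  intro ha
  apply basicOpen_mem_support hfa hw
  rw [Scheme.basicOpen_mul]
  refine ⟨?_, ha⟩
  by_contra hf
  apply hwI
  rw [I.mem_support_iff_of_mem hwV, hI, Scheme.zeroLocus_span, Scheme.zeroLocus_singleton]
  exact hf

/-- Two pieces of an effective Cartier sum have disjoint strict transforms. -/
theorem disjoint_closure {J₁ J₂ : X.IdealSheafData} (h : BlowUp.IsEffCartierIdeal (J₁ ⊔ J₂)) {A₁ A₂ : Set X}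
    (h₁ : A₁ ⊆ J₁.support) (h₂ : A₂ ⊆ J₂.support)
    (h₁' : Disjoint A₁ (J₁ ⊔ J₂).support) (h₂' : Disjoint A₂ (J₁ ⊔ J₂).support) :
    Disjoint (closure A₁) (closure A₂) := by
  rw [Set.disjoint_left]
  intro z hz₁ hz₂
  obtain ⟨V, hzV, f, hf, hI⟩ := h z
  have hfI : f ∈ J₁.ideal V ⊔ J₂.ideal V := by
    have : f ∈ (J₁ ⊔ J₂).ideal V := by rw [hI]; exact Ideal.mem_span_singleton_self f
    rwa [Scheme.IdealSheafData.ideal_sup] at this
  have hle : ∀ {j : Γ(X, V.1)}, (j ∈ J₁.ideal V ∨ j ∈ J₂.ideal V) → ∃ a, j = f * a := by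
    intro j hj
    have : j ∈ (J₁ ⊔ J₂).ideal V := by
      rw [Scheme.IdealSheafData.ideal_sup]
      exact hj.elim (fun h => Submodule.mem_sup_left h) (fun h => Submodule.mem_sup_right h)
    rw [hI, Ideal.mem_span_singleton] at this
    exact this
  obtain ⟨j₁, hj₁, j₂, hj₂, hsum⟩ := Submodule.mem_sup.1 hfI
  obtain ⟨a₁, rfl⟩ := hle (Or.inl hj₁)
  obtain ⟨a₂, rfl⟩ := hle (Or.inr hj₂)
  have hone : a₁ + a₂ = 1 := by
    refine (mem_nonZeroDivisors_iff_right.mp hf) (a₁ + a₂ - 1) ?_ |> sub_eq_zero.1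
    linear_combination hsum
  by_cases hz : z ∈ X.basicOpen a₁
  · obtain ⟨w, hwa, hwA⟩ := mem_closure_iff.1 hz₁ _ (X.basicOpen a₁).2 hz
    exact not_mem_basicOpen_cofactor hI hj₁ (X.basicOpen_le a₁ hwa) (h₁ hwA) (Set.disjoint_left.1 h₁' hwA) hwa
  · have hz' : z ∈ X.basicOpen a₂ := by
      have h1 : z ∈ X.basicOpen (a₁ + a₂) := by rw [hone, Scheme.basicOpen_of_isUnit _ isUnit_one]; exact hzV
      exact (X.basicOpen_add_le a₁ a₂ h1).resolve_left hz
    obtain ⟨w, hwa, hwA⟩ := mem_closure_iff.1 hz₂ _ (X.basicOpen a₂).2 hz'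
    exact not_mem_basicOpen_cofactor hI hj₂ (X.basicOpen_le a₂ hwa) (h₂ hwA) (Set.disjoint_left.1 h₂' hwA) hwa

theorem separate [CompactSpace X] [QuasiSeparatedSpace X]
    (U : X.Opens) (hU : IsCompact (U : Set X)) (T₁ T₂ : Set U) (h₁ : IsClosed T₁) (h₂ : IsClosed T₂)
    (c₁ : Topology.IsConstructible T₁) (c₂ : Topology.IsConstructible T₂) (hd : Disjoint T₁ T₂) :
    ∃ (𝓘 : X.IdealSheafData) (X' : Scheme.{u}) (b : X' ⟶ X), BlowUp.IsBlowUp b 𝓘 ∧ BlowUp.IsAdmissibleFor U 𝓘 ∧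
      Disjoint (closure (b.base ⁻¹' (Subtype.val '' T₁))) (closure (b.base ⁻¹' (Subtype.val '' T₂))) := by
  haveI : CompactSpace U := isCompact_iff_compactSpace.1 hU
  let O : ∀ (T : Set U), IsClosed T → X.Opens := fun T hT =>
    ⟨Subtype.val '' Tᶜ, U.2.isOpenEmbedding_subtypeVal.isOpenMap _ hT.isOpen_compl⟩
  have hO : ∀ T hT, Topology.IsConstructible T → IsCompact (O T hT : Set X) := fun T hT hc =>
    (isCompact_of_isConstructible hc.compl).image continuous_subtype_val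
  obtain ⟨J₁, hJ₁, hs₁⟩ := exists_ideal_support_eq X _ (hO T₁ h₁ c₁)
  obtain ⟨J₂, hJ₂, hs₂⟩ := exists_ideal_support_eq X _ (hO T₂ h₂ c₂)
  have hs₁' : (J₁.support : Set X) = (Subtype.val '' T₁ᶜ)ᶜ := hs₁
  have hs₂' : (J₂.support : Set X) = (Subtype.val '' T₂ᶜ)ᶜ := hs₂
  have hsI : ((J₁ ⊔ J₂).support : Set X) = (U : Set X)ᶜ := by
    rw [Scheme.IdealSheafData.support_sup, Closeds.coe_inf, hs₁', hs₂', ← Set.compl_union, compl_inj_iff]
    refine Set.Subset.antisymm ?_ fun x hx => ?_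
    · rintro x (⟨t, _, rfl⟩ | ⟨t, _, rfl⟩) <;> exact t.2
    · rcases em ((⟨x, hx⟩ : U) ∈ T₁) with h | h
      exacts [Or.inr ⟨_, Set.disjoint_left.1 hd h, rfl⟩, Or.inl ⟨_, h, rfl⟩]
  refine ⟨J₁ ⊔ J₂, _, BlowUpExist.ChartIdx.blowUpHom (J₁ ⊔ J₂), BlowUpExist.ChartIdx.isBlowUp_blowUpHom,
    ⟨EffCartier.isFiniteTypeIdeal_sup hJ₁ hJ₂, ?_⟩, ?_⟩
  · rw [hsI]; exact disjoint_compl_left
  · have hc := (BlowUpExist.ChartIdx.isBlowUp_blowUpHom (C := J₁ ⊔ J₂)).1
    rw [Scheme.IdealSheafData.comap_sup] at hc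
    refine disjoint_closure hc ?_ ?_ ?_ ?_
    · rintro w ⟨t, ht, hw⟩
      rw [Scheme.IdealSheafData.support_comap]
      show (BlowUpExist.ChartIdx.blowUpHom (J₁ ⊔ J₂)).base w ∈ (J₁.support : Set X)
      rw [hs₁', ← hw]
      rintro ⟨s, hs, e⟩
      exact hs (Subtype.val_injective e ▸ ht)
    · rintro w ⟨t, ht, hw⟩
      rw [Scheme.IdealSheafData.support_comap]
      show (BlowUpExist.ChartIdx.blowUpHom (J₁ ⊔ J₂)).base w ∈ (J₂.support : Set X)
      rw [hs₂', ← hw]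
      rintro ⟨s, hs, e⟩
      exact hs (Subtype.val_injective e ▸ ht)
    all_goals
      rw [← Scheme.IdealSheafData.comap_sup, Scheme.IdealSheafData.support_comap, Set.disjoint_left]
      rintro w ⟨t, ht, hw⟩ hws
      have : (BlowUpExist.ChartIdx.blowUpHom (J₁ ⊔ J₂)).base w ∈ ((J₁ ⊔ J₂).support : Set X) := hws
      rw [hsI, ← hw] at this
      exact this t.2

end Groth.Agent.AdmBlowUp4
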